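import Groth.Agent.OmegaSh.K584.GenSec
import Groth.Agent.OmegaSh.K584.GenExt
import Groth.Agent.Nrm16.K136.UnivOmega
import Groth.Agent.S9370
import Groth.Agent.GIT.K384.FrameEx
import Groth.Agent.Fdesc.GeomRed
import Groth.Agent.Surf.K455.Canon
import Groth.Agent.Surf.K461.SerreDual
import Groth.Agent.Surf.K461.PlaneMain
import Groth.Agent.Ega3B.SectExact
import Groth.Agent.Fga.TensorList
import Groth.Agent.PerfC.PullRestrict

/-!
# Surfaces with `p_g = 0` have Albanese image of dimension at most one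

* `exists_sections`: the characteristic-zero version of `K584.GenSec.exists_sections` (no hypothesis on the fibres).
* `exists_section_top`: `X` smooth proper integral of dimension `m` over a field of characteristic zero, `ψ : X ⟶ Z`
  with `ψ^* Ω_Z` free and image of dimension at least `m`: a nonzero top form on `X`.
* `dim_range_le`: for a surface with `H^2(X, O_X) = 0` every map to an abelian variety has image of dimension `≤ 1`.
-/

set_option autoImplicit false
set_option maxHeartbeats 400000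
universe u

open CategoryTheory CategoryTheory.Limits AlgebraicGeometry TopologicalSpace Opposite OmegaSh MonoidalCategory

namespace K837.AlbImg

open K583.AlgUniv K583.StalkDer Groth.Agent.VarietyA.StalkBC Groth.Agent.Fdesc.PullbackStalk
  Groth.Agent.CycB.StalkExact K584.GenSep K584.GenMono Groth.Agent.Dcoh.FreeSec K584.GenSec

section Main

variable {k : Type u} [Field k] [CharZero k] {X Z : Scheme.{u}} {gZ : Z ⟶ Spec (CommRingCat.of k)}
    {gX : X ⟶ Spec (CommRingCat.of k)} {f : X ⟶ Z} [LocallyOfFiniteType gZ] [IsIntegral X]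
    {ΩZ : Z.Modules} {dZ : Der gZ ΩZ} {ΩX : X.Modules} {dX : Der gX ΩX}
    {c : (Scheme.Modules.pullback f).obj ΩZ ⟶ ΩX}

/-- Independent global 1-forms from a morphism to `Z` with `f^* Ω_Z` free, in characteristic zero. -/
theorem exists_sections (hf : f ≫ gZ = gX)
    (hdX : IsUniversal dX) (hc : IsDiffCompat f dZ dX c) (m : ℕ)
    (hm : (m : WithBot ℕ∞) ≤ topologicalKrullDim ↥(closure ({f (genericPoint X)} : Set ↥Z)))
    (hfree : ∃ d : ℕ, Nonempty ((Scheme.Modules.pullback f).obj ΩZ ≅ FlatMod.freeMod X d)) :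
    ∃ s : Fin m → Γ(ΩX, ⊤), LinearIndependent (X.presheaf.stalk (genericPoint X))
      (fun i => ΩX.presheaf.germ ⊤ (genericPoint X) trivial (s i)) := by
  obtain ⟨d, ⟨a⟩⟩ := hfree
  let es : Fin d → Γ((Scheme.Modules.pullback f).obj ΩZ, ⊤) := fun j => a.inv.app ⊤ (e X j)
  let ω : Fin d → Γ(ΩX, ⊤) := fun j => c.app ⊤ (es j)
  let ξ := genericPoint X
  let v : Fin d → ΩX.presheaf.stalk ξ := fun j => ΩX.presheaf.germ ⊤ ξ trivial (ω j)
  let κ : k →+* Z.residueField (f ξ) := (Z.residue (f ξ)).hom.comp (stalkRingHom gZ (f ξ))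
  let ρ : Z.residueField (f ξ) →+* X.functionField := rho f ξ isField_generic
  have hρκ : ρ.comp κ = stalkRingHom gX ξ := by
    subst hf
    exact stalkRingHom_comp gZ f ξ
  have hspan : Submodule.span (X.presheaf.stalk ξ) (Set.range fun j : Fin d =>
      ((Scheme.Modules.pullback f).obj ΩZ).presheaf.germ ⊤ ξ trivial (es j)) = ⊤ := by
    rw [eq_top_iff]
    rintro t -
    have h1 : t = stalkLin a.inv ξ (stalkLin a.hom ξ t) := by
      rw [← LinearMap.comp_apply, ← stalkLin_comp, a.hom_inv_id, stalkLin_id]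
      rfl
    have h2 : stalkLin a.hom ξ t ∈ Submodule.span (X.presheaf.stalk ξ) (Set.range fun j : Fin d =>
        (FlatMod.freeMod X d).presheaf.germ ⊤ ξ trivial (e X j)) := by
      rw [span_stalk_free]; trivial
    rw [h1]
    have h3 := Submodule.mem_map_of_mem (f := stalkLin a.inv ξ) h2
    rw [Submodule.map_span, ← Set.range_comp] at h3
    refine Submodule.span_mono ?_ h3
    rintro _ ⟨j, rfl⟩
    exact ⟨j, (stalkLin_germ (U := ⊤) a.inv ξ trivial (e X j)).symm⟩
  have hvspan : ∀ t, stalkLin c ξ t ∈ Submodule.span (X.presheaf.stalk ξ) (Set.range v) := by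
    intro t
    have ht : t ∈ Submodule.span (X.presheaf.stalk ξ) (Set.range fun j : Fin d =>
      ((Scheme.Modules.pullback f).obj ΩZ).presheaf.germ ⊤ ξ trivial (es j)) := by rw [hspan]; trivial
    have h3 := Submodule.mem_map_of_mem (f := stalkLin c ξ) ht
    rw [Submodule.map_span, ← Set.range_comp] at h3
    refine Submodule.span_mono ?_ h3
    rintro _ ⟨j, rfl⟩
    exact ⟨j, (stalkLin_germ (U := ⊤) c ξ trivial (es j)).symm⟩
  have hv : ∀ a : Z.residueField (f ξ), stalkDer dX ξ (ρ a) ∈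
      Submodule.span (X.presheaf.stalk ξ) (Set.range v) := by
    intro a
    obtain ⟨r, rfl⟩ := Z.residue_surjective (f ξ) a
    have h1 : ρ (Z.residue (f ξ) r) = f.stalkMap ξ r := rfl
    rw [h1, ← stalkLin_isDiffCompat hc ξ r]
    exact hvspan _
  have hφ : Spec.map (CommRingCat.ofHom κ) = Z.fromSpecResidueField (f ξ) ≫ gZ := by
    have h1 := fromSpecStalk_comp gZ (f ξ)
    have h2 : CommRingCat.ofHom κ = CommRingCat.ofHom (stalkRingHom gZ (f ξ)) ≫ Z.residue (f ξ) := rfl
    rw [h2, Spec.map_comp, ← h1, ← Category.assoc]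
    rfl
  have hm' := K584.GenDim.le_finrank_kaehler gZ (f ξ) m hm κ hφ
  have hδ : IsAlgUniv (ρ.comp κ) (stalkDer dX ξ) := by
    rw [hρκ]
    exact isAlgUniv_stalk hdX ξ
  have hch : CharZero (Z.residueField (f ξ)) := charZero_of_injective_ringHom κ.injective
  have hgr : letI := ρ.toAlgebra
      Algebra.IsGeometricallyReduced (Z.residueField (f ξ)) X.functionField := by
    let _ := ρ.toAlgebra
    exact Groth.Agent.Fdesc.GeomRed.isGeometricallyReduced_of_perfectField _
  obtain ⟨g, hg⟩ := K584.GenDim.exists_linearIndependent κ ρ hgr hδ v hv m hm'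
  exact ⟨fun i => ω (g i), hg⟩

end Main

/-- A nonzero top form from a map with free pulled back cotangent sheaf and image of maximal dimension. -/
theorem exists_form {k : Type u} [Field k] [CharZero k] {X Z : Scheme.{u}} (gX : X ⟶ Spec (CommRingCat.of k))
    (gZ : Z ⟶ Spec (CommRingCat.of k)) [LocallyOfFiniteType gZ] [QuasiSeparated gZ] [QuasiSeparated gX]
    [IsIntegral X] (f : X ⟶ Z) (hf : f ≫ gZ = gX) (m : ℕ)
    (hm : (m : WithBot ℕ∞) ≤ topologicalKrullDim ↥(closure ({f (genericPoint X)} : Set ↥Z)))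
    (hfree : ∃ d : ℕ, Nonempty (Omega.sheaf gZ ≅ FlatMod.freeMod Z d))
    (W : X.Modules) (hW : ExtPow.IsExtPow m (Omega.sheaf gX) W) : ∃ σ : Γ(W, ⊤), σ ≠ 0 := by
  have hdX := K136.UnivOmega.isUniversal_dOmega gX
  have hdZ := K136.UnivOmega.isUniversal_dOmega gZ
  obtain ⟨c, hc, -⟩ := Groth.Agent.S9370.result gZ gX f (𝟙 _) (by rw [Category.comp_id, hf]) _ (dOmega gZ) hdZ _
    (dOmega gX) hdX
  have hfree' : ∃ d : ℕ, Nonempty ((Scheme.Modules.pullback f).obj (Omega.sheaf gZ) ≅ FlatMod.freeMod X d) := by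
    obtain ⟨d, ⟨e⟩⟩ := hfree
    exact ⟨d, ⟨(Scheme.Modules.pullback f).mapIso e ≪≫ Groth.Agent.PerfC.PullRestrict.pullbackFreeMod f d⟩⟩
  obtain ⟨s, hs⟩ := exists_sections hf hdX hc m hm hfree'
  obtain ⟨_, ⟨V, hV, rfl⟩, hξV, -⟩ := X.isBasis_affineOpens.exists_subset_of_mem_open
    (show genericPoint X ∈ ((⊤ : X.Opens) : Set X) from trivial) (⊤ : X.Opens).isOpen
  obtain ⟨φ, hφ⟩ := hW
  obtain ⟨σ, hσ⟩ := K584.GenExt.exists_wedge (U := ⊤) φ hφ s
  refine ⟨σ, fun h0 => ?_⟩
  have h1 := hσ ⟨V, hV⟩ le_top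
  rw [h0, map_zero] at h1
  have h5 := (LinearEquiv.map_eq_zero_iff (φ ⟨V, hV⟩).symm).1 h1.symm
  refine K584.GenExt.wedge_ne_zero (E := Omega.sheaf gX) (V := V) _ hξV ?_ h5
  have e : ∀ i, (Omega.sheaf gX).presheaf.germ V (genericPoint X) hξV
      ((Omega.sheaf gX).presheaf.map (homOfLE (le_top (a := V))).op (s i)) =
      (Omega.sheaf gX).presheaf.germ ⊤ (genericPoint X) trivial (s i) := fun i =>
    TopCat.Presheaf.germ_res_apply (Omega.sheaf gX).presheaf (homOfLE (le_top (a := V))) (genericPoint X) hξV (s i)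
  simp only [e]
  exact hs

theorem two_le_of_one_lt {x : WithBot ℕ∞} (h : 1 < x) : ((2 : ℕ) : WithBot ℕ∞) ≤ x := by
  induction x using WithBot.recBotCoe with
  | bot => exact absurd h (not_lt_of_ge bot_le)
  | coe a =>
    have h1 : (1 : ℕ∞) < a := by exact_mod_cast h
    have h2 : (1 : ℕ∞) + 1 ≤ a := Order.add_one_le_of_lt h1
    rw [one_add_one_eq_two] at h2
    exact WithBot.coe_le_coe.2 h2

/-- A surface with `p_g = 0` has Albanese image of dimension at most one. -/
theorem dim_range_le (k : Type u) [Field k] [IsAlgClosed k] [CharZero k] (X : Scheme.{u}) [X.Over (Spec (CommRingCat.of k))]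
    [IsProper (X ↘ Spec (CommRingCat.of k))] [Smooth (X ↘ Spec (CommRingCat.of k))] [IsIntegral X]
    (hdim : topologicalKrullDim X = 2) (hpg : Subsingleton (Coh.HH X (Coh.structureModule X) 2))
    (A : Over (Spec (CommRingCat.of k))) [GrpObj A] [IsProper A.hom] [Smooth A.hom] [ConnectedSpace A.left]
    (ψ : X ⟶ A.left) (hψ : ψ ≫ A.hom = X ↘ Spec (CommRingCat.of k)) :
    topologicalKrullDim (Set.range ψ) ≤ 1 := by
  have i1 : SmoothOfRelativeDimension 2 (X ↘ Spec (CommRingCat.of k)) :=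
    Groth.Agent.Picfga.CurveRelDim.smoothOfRelativeDimension_of_topologicalKrullDim_eq k X _ 2 hdim
  obtain ⟨W, hW, -⟩ := K455.Canon.exists_canonical (X ↘ Spec (CommRingCat.of k)) 2
  -- no sections of `W`, by Serre duality
  have hsub : Subsingleton Γ(W, ⊤) := by
    obtain ⟨e⟩ := K461.SerreDual.nonempty_dual_equiv k 2 hW (L := Coh.structureModule X) (L' := Coh.structureModule X)
      ⟨Groth.Agent.Fga.TensorList.tensorUnit _⟩ (Groth.Agent.Ega2.QCohLocal.isQCoh_structureModule X) 0 2 rfl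
    have h1 : Subsingleton (Coh.HH X (CohB1.tensorMod W (Coh.structureModule X)) 0) :=
      e.symm.toEquiv.subsingleton
    have h2 : Subsingleton Γ(CohB1.tensorMod W (Coh.structureModule X), ⊤) :=
      (Groth.Agent.Ega3B.SectExact.secEquiv _).symm.toEquiv.subsingleton
    let t := Groth.Agent.Fga.TensorList.tensorUnit W
    refine ⟨fun a b => ?_⟩
    have h3 : ∀ a : Γ(W, ⊤), t.hom.app ⊤ (t.inv.app ⊤ a) = a := fun a => by
      have h4 := congrArg (fun q => Scheme.Modules.Hom.app q ⊤) t.inv_hom_id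
      exact congr($h4 a)
    rw [← h3 a, ← h3 b, Subsingleton.elim (t.inv.app ⊤ a) (t.inv.app ⊤ b)]
  by_contra hlt
  rw [not_le] at hlt
  have hcl : closure ({ψ (genericPoint X)} : Set A.left) = Set.range ψ := by
    have h1 : closure {ψ (genericPoint X)} = closure (Set.range ψ.base) := by
      have h1 := (genericPoint_spec X).image ψ.continuous
      rw [Set.image_univ] at h1
      exact h1
    have h2 : IsProper ψ := by
      have h3 : IsProper (ψ ≫ A.hom) := by rw [hψ]; infer_instance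
      exact IsProper.of_comp ψ A.hom
    rw [h1]
    exact ψ.isClosedMap.isClosed_range.closure_eq
  have hm : ((2 : ℕ) : WithBot ℕ∞) ≤ topologicalKrullDim ↥(closure ({ψ (genericPoint X)} : Set ↥A.left)) := by
    rw [hcl]
    exact two_le_of_one_lt hlt
  obtain ⟨σ, hσ⟩ := exists_form (X ↘ Spec (CommRingCat.of k)) A.hom ψ hψ 2 hm
    (K384.FrameEx.exists_iso_freeMod A) W hW
  exact hσ (Subsingleton.elim _ _)

end K837.AlbImg
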